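import Groth.Agent.Lib.Tor.Balance
import Groth.Prelude.Def_DRing2
import Mathlib.RingTheory.Noetherian.Basic
import Mathlib.LinearAlgebra.TensorProduct.Pi
import Mathlib.Algebra.Homology.ShortComplex.ModuleCat

/-! Finite free resolutions by matrices and vanishing of Tor in element form. -/

set_option autoImplicit false

universe u v

namespace Groth.Agent.Lib.TorObstruction.Bridge

open CategoryTheory CategoryTheory.Limits MonoidalCategory
open scoped TensorProduct

/-- A matrix acting on vectors with entries in a module. -/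
def mv {Q : Type u} [CommRing Q] {V : Type v} [AddCommGroup V] [Module Q V] {a b : ℕ}
    (M : Fin a → Fin b → Q) : (Fin b → V) →ₗ[Q] (Fin a → V) :=
  LinearMap.pi fun i => ∑ k, M i k • LinearMap.proj k

theorem mv_apply {Q : Type u} [CommRing Q] {V : Type v} [AddCommGroup V] [Module Q V] {a b : ℕ}
    (M : Fin a → Fin b → Q) (w : Fin b → V) (i : Fin a) : mv M w i = ∑ k, M i k • w k := by
  simp [mv]

theorem exists_matrix {Q : Type u} [CommRing Q] {a b : ℕ} (g : (Fin b → Q) →ₗ[Q] (Fin a → Q)) :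
    ∃ M : Fin a → Fin b → Q, ∀ w : Fin b → Q, mv M w = g w := by
  classical
  refine ⟨fun i k => g (Pi.single k 1) i, fun w => funext fun i => ?_⟩
  conv_rhs => rw [pi_eq_sum_univ' w]
  rw [mv_apply, map_sum, Finset.sum_apply]
  refine Finset.sum_congr rfl fun k _ => ?_
  rw [map_smul, Pi.smul_apply, smul_eq_mul, smul_eq_mul, mul_comm]

variable (R : Type u) [CommRing R]

/-- The shape of a map in a resolution. -/
abbrev Step := Σ a b : ℕ, Fin a → Fin b → R

variable {R}

theorem exists_next [IsNoetherianRing R] {a b : ℕ} (M : Fin a → Fin b → R) :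
    ∃ (c : ℕ) (M' : Fin b → Fin c → R), ∀ v : Fin b → R,
      mv M v = 0 ↔ ∃ w : Fin c → R, mv M' w = v := by
  obtain ⟨c, g, hg⟩ := Module.Finite.exists_fin' R (LinearMap.ker (mv (V := R) M))
  obtain ⟨M', hM'⟩ := exists_matrix ((LinearMap.ker (mv (V := R) M)).subtype ∘ₗ g)
  refine ⟨c, M', fun v => ⟨fun hv => ?_, ?_⟩⟩
  · obtain ⟨w, hw⟩ := hg ⟨v, hv⟩
    exact ⟨w, by rw [hM', LinearMap.comp_apply, hw]; rfl⟩
  · rintro ⟨w, rfl⟩
    rw [hM']
    exact (g w).2

theorem exists_resolution [IsNoetherianRing R] (I : Ideal R) :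
    ∃ (n : ℕ → ℕ) (M : ∀ j, Fin (n j) → Fin (n (j + 1)) → R) (i0 : Fin (n 0)),
      Subsingleton (Fin (n 0)) ∧
      (∀ v : Fin (n 0) → R, (∃ w : Fin (n 1) → R, mv (M 0) w = v) ↔ v i0 ∈ I) ∧
      ∀ j (v : Fin (n (j + 1)) → R),
        mv (M j) v = 0 ↔ ∃ w : Fin (n (j + 2)) → R, mv (M (j + 1)) w = v := by
  obtain ⟨b, g, hg⟩ := Module.Finite.exists_fin' R I
  obtain ⟨M₀, hM₀⟩ := exists_matrix
    ((LinearMap.pi fun _ : Fin 1 => (I.subtype ∘ₗ g)) : (Fin b → R) →ₗ[R] (Fin 1 → R))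
  choose c next hnext using fun s : Step R => exists_next (R := R) s.2.2
  let seq : ℕ → Step R := fun j => Nat.rec (motive := fun _ => Step R) ⟨1, b, M₀⟩
    (fun _ s => ⟨s.2.1, c s, next s⟩) j
  let n : ℕ → ℕ := fun j => match j with
    | 0 => 1
    | j + 1 => (seq j).2.1
  let M : ∀ j, Fin (n j) → Fin (n (j + 1)) → R := fun j => match j with
    | 0 => M₀
    | j + 1 => next (seq j)
  refine ⟨n, M, (0 : Fin 1), inferInstanceAs (Subsingleton (Fin 1)), fun v => ⟨?_, fun hv => ?_⟩,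
    fun j v => ?_⟩
  · rintro ⟨w, rfl⟩
    change mv M₀ w 0 ∈ I
    rw [hM₀]
    exact (g w).2
  · obtain ⟨w, hw⟩ := hg ⟨v 0, hv⟩
    refine ⟨w, ?_⟩
    change mv M₀ w = v
    rw [hM₀]
    funext i
    obtain rfl : i = (0 : Fin 1) := Subsingleton.elim _ _
    change ((g w : I) : R) = _
    rw [hw]
  · cases j with
    | zero => exact hnext (seq 0) v
    | succ j => exact hnext (seq (j + 1)) v

/-- `(Fin b → R) ⊗ S = (Fin b → S)`. -/
noncomputable def vecEquiv (S : Type u) [AddCommGroup S] [Module R S] (b : ℕ) :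
    (Fin b → R) ⊗[R] S ≃ₗ[R] (Fin b → S) :=
  (TensorProduct.comm R _ _).trans (TensorProduct.piScalarRight R R S (Fin b))

theorem vecEquiv_tmul (S : Type u) [AddCommGroup S] [Module R S] (b : ℕ) (v : Fin b → R) (s : S) :
    vecEquiv S b (v ⊗ₜ s) = fun i => v i • s := by
  simp [vecEquiv]

theorem vecEquiv_rTensor (S : Type u) [AddCommGroup S] [Module R S] {a b : ℕ}
    (M : Fin a → Fin b → R) (x : (Fin b → R) ⊗[R] S) :
    vecEquiv S a ((mv (V := R) M).rTensor S x) = mv M (vecEquiv S b x) := by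
  induction x using TensorProduct.induction_on with
  | zero => simp
  | tmul v s =>
      rw [LinearMap.rTensor_tmul, vecEquiv_tmul, vecEquiv_tmul]
      funext i
      rw [mv_apply, mv_apply, Finset.sum_smul]
      refine Finset.sum_congr rfl fun k _ => ?_
      rw [smul_eq_mul, mul_smul]
  | add x y hx hy => simp only [map_add, hx, hy]

/-- Vanishing of Tor gives exactness of the tensored resolution. -/
theorem exact_of_subsingleton_tor (I : Ideal R) (n : ℕ → ℕ)
    (M : ∀ j, Fin (n j) → Fin (n (j + 1)) → R) (i0 : Fin (n 0)) [Subsingleton (Fin (n 0))]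
    (h0 : ∀ v : Fin (n 0) → R, (∃ w : Fin (n 1) → R, mv (M 0) w = v) ↔ v i0 ∈ I)
    (hex : ∀ j (v : Fin (n (j + 1)) → R),
      mv (M j) v = 0 ↔ ∃ w : Fin (n (j + 2)) → R, mv (M (j + 1)) w = v)
    (S : Type u) [AddCommGroup S] [Module R S] (p : ℕ)
    (htor : Subsingleton (DRing.Tor R (p + 1) S (R ⧸ I)))
    (z : Fin (n (p + 1)) → S) (hz : mv (M p) z = 0) :
    ∃ t : Fin (n (p + 2)) → S, mv (M (p + 1)) t = z := by
  classical
  let X : ℕ → ModuleCat.{u} R := fun j => ModuleCat.of R (Fin (n j) → R)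
  let d : ∀ j, X (j + 1) ⟶ X j := fun j => ModuleCat.ofHom (mv (V := R) (M j))
  have hdd : ∀ j, d (j + 1) ≫ d j = 0 := fun j =>
    ModuleCat.hom_ext (LinearMap.ext fun w => (hex j _).2 ⟨w, rfl⟩)
  let C : ChainComplex (ModuleCat.{u} R) ℕ := ChainComplex.of X d hdd
  have hCd : ∀ j, C.d (j + 1) j = d j := fun j => ChainComplex.of_d (X := X) (d := d) (j := j)
  have hflat : ∀ i, Module.Flat R (C.X i) := fun i =>
    inferInstanceAs (Module.Flat R (Fin (n i) → R))
  have hexact : ∀ i, C.ExactAt (i + 1) := fun i => by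
    rw [HomologicalComplex.exactAt_iff' C (i + 2) (i + 1) i (by simp) (by simp),
      ShortComplex.moduleCat_exact_iff]
    intro x hx
    obtain ⟨w, hw⟩ := (hex i x).1 ((congr_arg (fun φ => φ.hom x) (hCd i)).symm.trans hx)
    exact ⟨w, (congr_arg (fun φ => φ.hom w) (hCd (i + 1))).trans hw⟩
  let ε : C.X 0 ⟶ ModuleCat.of R (R ⧸ I) :=
    ModuleCat.ofHom ((Submodule.mkQ I).comp (LinearMap.proj i0))
  have w0 : C.d 1 0 ≫ ε = 0 := by
    refine ModuleCat.hom_ext (LinearMap.ext fun v => ?_)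
    exact (congr_arg (fun φ => Submodule.mkQ I ((φ.hom v : Fin (n 0) → R) i0)) (hCd 0)).trans
      ((Submodule.Quotient.mk_eq_zero I).2 ((h0 _).1 ⟨v, rfl⟩))
  have hepi : Epi ε := (ModuleCat.epi_iff_surjective ε).2 fun y => by
    obtain ⟨y, rfl⟩ := Submodule.mkQ_surjective I y
    exact ⟨fun _ => y, rfl⟩
  have hex0 : (ShortComplex.mk _ _ w0).Exact := by
    rw [ShortComplex.moduleCat_exact_iff]
    intro x hx
    obtain ⟨w, hw⟩ := (h0 x).2 ((Submodule.Quotient.mk_eq_zero I).1 hx)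
    exact ⟨w, (congr_arg (fun φ => φ.hom w) (hCd 0)).trans hw⟩
  let iso := Tor.Balance.torFlipIso (A := R) (ModuleCat.of R S) (ModuleCat.of R (R ⧸ I)) (p + 1) ≪≫
    ((Tor.Balance.torIsoOfFlatResolution C hflat hexact ε w0 hepi hex0 (p + 1)).app
      (ModuleCat.of R S)).symm
  have hzero : IsZero ((((tensorRight (ModuleCat.of R S)).mapHomologicalComplex
      (ComplexShape.down ℕ)).obj C).homology (p + 1)) := by
    haveI := htor
    exact (ModuleCat.isZero_of_subsingleton _).of_iso iso.symm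
  have hE := (HomologicalComplex.exactAt_iff_isZero_homology _ _).2 hzero
  rw [HomologicalComplex.exactAt_iff' _ (p + 2) (p + 1) p (by simp) (by simp),
    ShortComplex.moduleCat_exact_iff] at hE
  have hd : ∀ j (x : (Fin (n (j + 1)) → R) ⊗[R] S),
      (C.d (j + 1) j).hom.rTensor S x = (mv (V := R) (M j)).rTensor S x := fun j x =>
    congr_arg (fun φ => φ.hom.rTensor S x) (hCd j)
  obtain ⟨t, ht⟩ := hE ((vecEquiv S (n (p + 1))).symm z) (by
    refine (hd p _).trans ((vecEquiv S (n p)).injective ?_)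
    rw [vecEquiv_rTensor, LinearEquiv.apply_symm_apply, hz]
    exact (map_zero (vecEquiv (R := R) S (n p))).symm)
  refine ⟨vecEquiv S (n (p + 2)) t, ?_⟩
  refine (vecEquiv_rTensor S (M (p + 1)) t).symm.trans ?_
  refine (congr_arg (vecEquiv S (n (p + 1))) ((hd (p + 1) t).symm.trans ht)).trans ?_
  exact LinearEquiv.apply_symm_apply _ _

end Groth.Agent.Lib.TorObstruction.Bridge
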