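import Mathlib.Algebra.Module.LinearMap.Basic
import Mathlib.LinearAlgebra.Pi
import Mathlib.RingTheory.Ideal.Span
import Mathlib.Algebra.BigOperators.Fin
import Mathlib.Tactic.Module

/-! A concrete exterior algebra of rank `m`, contraction and multiplication operators. -/

set_option autoImplicit false

universe u

namespace Groth.Agent.Lib.TorObstruction.Cube

variable {Q : Type u} [CommRing Q]

/-- Functions on the cube. -/
abbrev V (Q : Type u) (m : ℕ) : Type u := (Fin m → Bool) → Q

/-- The origin. -/
abbrev O (m : ℕ) : Fin m → Bool := fun _ => false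

/-- Restriction to the face `b 0 = v`. -/
def face {m : ℕ} (v : Bool) : V Q (m + 1) →ₗ[Q] V Q m :=
  LinearMap.funLeft Q Q (fun b => Fin.cons v b)

/-- Gluing two faces. -/
def glue {m : ℕ} {W : Type u} [AddCommGroup W] [Module Q W] (F T : W →ₗ[Q] V Q m) :
    W →ₗ[Q] V Q (m + 1) :=
  LinearMap.pi fun b => if b 0 then (LinearMap.proj (Fin.tail b)).comp T
    else (LinearMap.proj (Fin.tail b)).comp F

/-- Contraction with `f`. -/
def opI : ∀ {m : ℕ}, (Fin m → Q) → (V Q m →ₗ[Q] V Q m)
  | 0, _ => 0
  | m + 1, f => glue ((opI (Fin.tail f)).comp (face false) + f 0 • face true)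
      (-((opI (Fin.tail f)).comp (face true)))

/-- Multiplication by `r`. -/
def opE : ∀ {m : ℕ}, (Fin m → Q) → (V Q m →ₗ[Q] V Q m)
  | 0, _ => 0
  | m + 1, r => glue ((opE (Fin.tail r)).comp (face false))
      (r 0 • face false - (opE (Fin.tail r)).comp (face true))

theorem face_glue {m : ℕ} {W : Type u} [AddCommGroup W] [Module Q W] (F T : W →ₗ[Q] V Q m)
    (v : Bool) (w : W) : face v (glue F T w) = if v then T w else F w := by
  funext b
  cases v <;> simp [face, glue, LinearMap.funLeft_apply]

theorem ext_face {m : ℕ} {a b : V Q (m + 1)} (h0 : face false a = face false b)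
    (h1 : face true a = face true b) : a = b := by
  funext x
  rw [← Fin.cons_self_tail x]
  cases x 0
  · exact congr_fun h0 (Fin.tail x)
  · exact congr_fun h1 (Fin.tail x)

theorem opI_opI : ∀ {m : ℕ} (f : Fin m → Q) (w : V Q m), opI f (opI f w) = 0
  | 0, _, _ => rfl
  | m + 1, f, w => by
      refine ext_face ?_ ?_ <;>
        simp [opI, face_glue, map_add, map_neg, map_smul, opI_opI (Fin.tail f)]

theorem opE_opE : ∀ {m : ℕ} (r : Fin m → Q) (w : V Q m), opE r (opE r w) = 0
  | 0, _, _ => rfl
  | m + 1, r, w => by
      refine ext_face ?_ ?_ <;>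
        simp [opE, face_glue, map_sub, map_neg, map_smul, opE_opE (Fin.tail r)]

theorem opI_opE : ∀ {m : ℕ} (f r : Fin m → Q) (w : V Q m),
    opI f (opE r w) + opE r (opI f w) = (∑ i, r i * f i) • w
  | 0, _, _, _ => by simp [opI, opE]
  | m + 1, f, r, w => by
      have h := fun v => opI_opE (Fin.tail f) (Fin.tail r) (face v w)
      have hs : (∑ i, r i * f i) = r 0 * f 0 + ∑ i, Fin.tail r i * Fin.tail f i :=
        Fin.sum_univ_succ _
      refine ext_face ?_ ?_
      · rw [hs]
        simp only [opI, opE, map_add, map_smul, face_glue, LinearMap.add_apply, LinearMap.sub_apply,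
          LinearMap.neg_apply, LinearMap.smul_apply, LinearMap.comp_apply, map_sub, map_neg,
          Bool.false_eq_true, if_false, if_true]
        rw [add_smul, ← h false]
        module
      · rw [hs]
        simp only [opI, opE, map_add, map_smul, face_glue, LinearMap.add_apply, LinearMap.sub_apply,
          LinearMap.neg_apply, LinearMap.smul_apply, LinearMap.comp_apply, map_sub, map_neg,
          Bool.false_eq_true, if_false, if_true]
        rw [add_smul, ← h true]
        module

theorem opI_apply_O : ∀ {m : ℕ} (f : Fin m → Q) (w : V Q m),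
    opI f w (O m) ∈ Ideal.span (Set.range f)
  | 0, _, _ => Submodule.zero_mem _
  | m + 1, f, w => by
      have h : opI f w (O (m + 1)) = face false (opI f w) (O m) := by
        change _ = opI f w (Fin.cons false (O m))
        congr 1
      rw [h, opI, face_glue]
      simp only [Bool.false_eq_true, if_false, LinearMap.add_apply, LinearMap.comp_apply,
        Pi.add_apply, LinearMap.smul_apply, Pi.smul_apply, smul_eq_mul]
      refine add_mem (Ideal.span_mono ?_ (opI_apply_O (Fin.tail f) _)) ?_
      · rintro _ ⟨i, rfl⟩
        exact ⟨i.succ, rfl⟩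
      · exact Ideal.mul_mem_right _ _ (Ideal.subset_span ⟨0, rfl⟩)

theorem opE_apply_O : ∀ {m : ℕ} (r : Fin m → Q) (w : V Q m), opE r w (O m) = 0
  | 0, _, _ => rfl
  | m + 1, r, w => by
      have h : opE r w (O (m + 1)) = face false (opE r w) (O m) := by
        change _ = opE r w (Fin.cons false (O m))
        congr 1
      rw [h, opE, face_glue]
      simp [opE_apply_O (Fin.tail r)]

theorem opE_mem : ∀ {m : ℕ} (r : Fin m → Q) (w : V Q m) (b : Fin m → Bool),
    opE r w b ∈ Ideal.span (Set.range r)
  | 0, _, _, _ => Submodule.zero_mem _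
  | m + 1, r, w, b => by
      have hsub : Ideal.span (Set.range (Fin.tail r)) ≤ Ideal.span (Set.range r) :=
        Ideal.span_mono (by rintro _ ⟨i, rfl⟩; exact ⟨i.succ, rfl⟩)
      have h : opE r w b = face (b 0) (opE r w) (Fin.tail b) := by
        change _ = opE r w (Fin.cons (b 0) (Fin.tail b))
        rw [Fin.cons_self_tail]
      rw [h, opE, face_glue]
      cases b 0
      · simp only [Bool.false_eq_true, if_false, LinearMap.comp_apply]
        exact hsub (opE_mem _ _ _)
      · simp only [if_true, LinearMap.sub_apply, LinearMap.smul_apply, LinearMap.comp_apply,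
          Pi.sub_apply, Pi.smul_apply, smul_eq_mul]
        exact sub_mem (Ideal.mul_mem_right _ _ (Ideal.subset_span ⟨0, rfl⟩)) (hsub (opE_mem _ _ _))

/-- The indicator of the origin. -/
def delta (Q : Type u) [CommRing Q] (m : ℕ) : V Q m := fun b => if b = O m then 1 else 0

theorem opI_delta : ∀ {m : ℕ} (f : Fin m → Q), opI f (delta Q m) = 0
  | 0, _ => rfl
  | m + 1, f => by
      have h0 : face false (delta Q (m + 1)) = delta Q m := by
        funext b
        have : (Fin.cons false b : Fin (m + 1) → Bool) = O (m + 1) ↔ b = O m := by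
          constructor
          · intro h
            funext i
            simpa using congr_fun h i.succ
          · rintro rfl
            funext i
            refine Fin.cases ?_ (fun j => ?_) i <;> simp
        simp [face, delta, LinearMap.funLeft_apply, this]
      have h1 : face true (delta Q (m + 1)) = 0 := by
        funext b
        have : (Fin.cons true b : Fin (m + 1) → Bool) ≠ O (m + 1) := fun h => by
          simpa using congr_fun h 0
        simp [face, delta, LinearMap.funLeft_apply, this]
      refine ext_face ?_ ?_ <;> simp [opI, face_glue, h0, h1, opI_delta (Fin.tail f)]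

/-- The operator on sequences. -/
def D {m : ℕ} (f r : Fin m → Q) : (ℕ → V Q m) →ₗ[Q] (ℕ → V Q m) :=
  LinearMap.pi fun i => (opI f).comp (LinearMap.proj i) + (opE r).comp (LinearMap.proj (i + 1))

theorem D_apply {m : ℕ} (f r : Fin m → Q) (w : ℕ → V Q m) (i : ℕ) :
    D f r w i = opI f (w i) + opE r (w (i + 1)) := rfl

theorem D_D {m : ℕ} (f r : Fin m → Q) (w : ℕ → V Q m) (i : ℕ) :
    D f r (D f r w) i = (∑ l, r l * f l) • w (i + 1) := by
  simp only [D_apply, map_add, opI_opI, opE_opE]
  rw [← opI_opE]
  abel

theorem D_apply_O {m : ℕ} (f r : Fin m → Q) (w : ℕ → V Q m) (i : ℕ) :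
    D f r w i (O m) ∈ Ideal.span (Set.range f) := by
  rw [D_apply, Pi.add_apply, opE_apply_O, add_zero]
  exact opI_apply_O _ _

end Groth.Agent.Lib.TorObstruction.Cube
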