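import Groth.Agent.Lib.TorObstruction.Cube
import Groth.Agent.Lib.TorObstruction.Bridge
import Mathlib.Algebra.MvPolynomial.Eval
import Mathlib.Algebra.MvPolynomial.Basic
import Mathlib.RingTheory.Polynomial.Basic
import Mathlib.RingTheory.Ideal.Maps

/-! The obstruction to finite Tor dimension from a lifted relation. -/

set_option autoImplicit false

universe u

namespace Groth.Agent.Lib.TorObstruction.Main

open MvPolynomial Bridge

variable {R' R : Type u} [CommRing R'] [CommRing R] (π : R' →+* R) {f : R'}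

theorem map_eq_zero_iff_mem (hker : RingHom.ker π = Ideal.span {f}) {n : ℕ}
    (v : MvPolynomial (Fin n) R') :
    MvPolynomial.map π v = 0 ↔ v ∈ Ideal.span {C f} := by
  rw [← RingHom.mem_ker, MvPolynomial.ker_map, hker, Ideal.map_span, Set.image_singleton]

theorem mul_eq_zero_of_coeff_mem (hker : RingHom.ker π = Ideal.span {f}) (hf : f * f = 0) {x : R'}
    (hx : π x ∈ (Ideal.span {f}).annihilator.map π) (hπ : Function.Surjective π) : f * x = 0 := by
  obtain ⟨y, hy, hyx⟩ := (Ideal.mem_map_iff_of_surjective π hπ).1 hx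
  have h1 : x - y ∈ Ideal.span {f} := by rw [← hker, RingHom.mem_ker, map_sub, hyx, sub_self]
  obtain ⟨c, hc⟩ := Ideal.mem_span_singleton'.1 h1
  have h2 : f * y = 0 := by
    have := (Submodule.mem_annihilator.1 hy) f (Ideal.mem_span_singleton_self f)
    rwa [smul_eq_mul, mul_comm] at this
  calc f * x = f * y + f * (c * f) := by rw [hc]; ring
    _ = 0 := by rw [h2, zero_add, mul_left_comm, hf, mul_zero]

theorem mem_annihilator_of_mul_eq_zero {x : R'} (hx : f * x = 0) :
    x ∈ (Ideal.span {f}).annihilator := by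
  rw [Ideal.span, Submodule.mem_annihilator_span_singleton, smul_eq_mul, mul_comm]
  exact hx

theorem mem_map_C_of_mul_eq_zero {n : ℕ} {v : MvPolynomial (Fin n) R'} (hv : C f * v = 0) :
    v ∈ (Ideal.span {f}).annihilator.map C := by
  rw [MvPolynomial.mem_map_C_iff]
  intro d
  refine mem_annihilator_of_mul_eq_zero ?_
  rw [← MvPolynomial.coeff_C_mul, hv, MvPolynomial.coeff_zero]

theorem mul_eq_zero_of_coeffs {n : ℕ} (hker : RingHom.ker π = Ideal.span {f}) (hf : f * f = 0)
    (hπ : Function.Surjective π) {v : MvPolynomial (Fin n) R'}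
    (hv : ∀ d, π (coeff d v) ∈ (Ideal.span {f}).annihilator.map π) : C f * v = 0 := by
  refine MvPolynomial.ext _ _ fun d => ?_
  rw [MvPolynomial.coeff_C_mul, MvPolynomial.coeff_zero]
  exact mul_eq_zero_of_coeff_mem π hker hf (hv d) hπ

theorem mv_map {Q T : Type u} [CommRing Q] [CommRing T] (φ : Q →+* T) {a b : ℕ}
    (M : Fin a → Fin b → Q) (w : Fin b → Q) (i : Fin a) :
    φ (mv M w i) = mv (fun i k => φ (M i k)) (fun k => φ (w k)) i := by
  simp [mv_apply, map_sum]

/-- Lifting preimages of polynomial vectors, coefficientwise. -/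
theorem exists_preimage (hπ : Function.Surjective π) (hker : RingHom.ker π = Ideal.span {f})
    {n a b : ℕ} (M : Fin a → Fin b → R') (v : Fin a → MvPolynomial (Fin n) R')
    (h : ∀ d, ∃ w : Fin b → R, mv (fun i k => π (M i k)) w = fun i => π (coeff d (v i))) :
    ∃ c : Fin b → MvPolynomial (Fin n) R',
      ∀ i, mv (fun i k => (C (M i k) : MvPolynomial (Fin n) R')) c i - v i ∈ Ideal.span {C f} := by
  classical
  let D : Finset (Fin n →₀ ℕ) := Finset.univ.biUnion fun i => (v i).support
  choose w hw using h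
  choose w' hw' using fun d k => hπ (w d k)
  refine ⟨fun k => ∑ d ∈ D, monomial d (w' d k), fun i => ?_⟩
  rw [← map_eq_zero_iff_mem π hker]
  refine MvPolynomial.ext _ _ fun d => ?_
  rw [MvPolynomial.coeff_map, MvPolynomial.coeff_sub, mv_apply, MvPolynomial.coeff_sum, map_sub,
    map_sum, MvPolynomial.coeff_zero]
  have h1 : ∀ k, π (coeff d ((C (M i k) : MvPolynomial (Fin n) R') • ∑ d ∈ D, monomial d (w' d k))) =
      if d ∈ D then π (M i k) * w d k else 0 := by
    intro k
    rw [smul_eq_mul, MvPolynomial.coeff_C_mul, MvPolynomial.coeff_sum]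
    simp only [MvPolynomial.coeff_monomial, Finset.sum_ite_eq']
    split_ifs with h
    · rw [map_mul, hw']
    · rw [mul_zero, map_zero]
  simp only [h1]
  by_cases hd : d ∈ D
  · simp only [if_pos hd]
    have := congr_fun (hw d) i
    rw [mv_apply] at this
    simp only [smul_eq_mul] at this
    rw [this, sub_self]
  · have hz : coeff d (v i) = 0 := by
      by_contra hne
      exact hd (Finset.mem_biUnion.2 ⟨i, Finset.mem_univ i, MvPolynomial.mem_support_iff.2 hne⟩)
    simp [if_neg hd, hz]

/-- If a relation has such a lift, finite Tor dimension forces `g` to be nilpotent. -/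
theorem exists_pow_mem [IsNoetherianRing R] (hπ : Function.Surjective π)
    (hker : RingHom.ker π = Ideal.span {f}) (hf : f * f = 0) {n m : ℕ}
    (fs : Fin m → MvPolynomial (Fin n) R)
    (r' f' : Fin m → MvPolynomial (Fin n) R') (g : MvPolynomial (Fin n) R')
    (hf' : ∀ j, MvPolynomial.map π (f' j) = fs j)
    (h1 : ∀ j d, π (coeff d (r' j)) ∈ (Ideal.span {f}).annihilator.map π)
    (hsum : ∑ j, r' j * f' j = C f * g)
    (htor : DRing.HasFiniteTorDim R (MvPolynomial (Fin n) R ⧸ Ideal.span (Set.range fs))) :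
    ∃ k : ℕ, (MvPolynomial.map π g) ^ k ∈
      Ideal.span (Set.range fs) ⊔ ((Ideal.span {f}).annihilator.map π).map C := by
  classical
  obtain ⟨N, hN⟩ := htor
  let P' := MvPolynomial (Fin n) R'
  let I := (Ideal.span {f}).annihilator.map π
  obtain ⟨nn, M, i0, hsub, h0, hex⟩ := exists_resolution I
  haveI := hsub
  choose M' hM' using fun j i k => hπ (M j i k)
  have hMπ : ∀ j, (fun i k => π (M' j i k)) = M j := fun j => funext fun i => funext fun k =>
    hM' j i k
  let MC : ∀ j, Fin (nn j) → Fin (nn (j + 1)) → P' := fun j i k => C (M' j i k)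
  have hcomp : ∀ j i l, ∃ χ : R', ∑ k, M' j i k * M' (j + 1) k l = χ * f := by
    intro j i l
    have : ∑ k, M' j i k * M' (j + 1) k l ∈ Ideal.span {f} := by
      rw [← hker, RingHom.mem_ker, map_sum]
      simp only [map_mul, hM']
      have := congr_fun ((hex j (fun k => M (j + 1) k l)).2
        ⟨Pi.single l 1, funext fun k => by simp [mv_apply, Pi.single_apply]⟩) i
      simpa [mv_apply] using this
    obtain ⟨χ, hχ⟩ := Ideal.mem_span_singleton'.1 this
    exact ⟨χ, hχ.symm⟩
  choose χ hχ using hcomp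
  let χC : ∀ j, Fin (nn j) → Fin (nn (j + 1 + 1)) → P' := fun j i k => C (χ j i k)
  have hMM : ∀ {V : Type u} [AddCommGroup V] [Module P' V] (j : ℕ) (w : Fin (nn (j + 1 + 1)) → V),
      mv (MC j) (mv (MC (j + 1)) w) = (C f : P') • mv (χC j) w := by
    intro V _ _ j w
    funext i
    simp only [mv_apply, Pi.smul_apply, Finset.smul_sum, smul_smul]
    rw [Finset.sum_comm]
    refine Finset.sum_congr rfl fun l _ => ?_
    rw [← Finset.sum_smul]
    simp only [MC, χC, ← map_mul, ← map_sum, hχ, mul_comm f]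
  let J' : Ideal P' := Ideal.span (Set.range f') ⊔ Ideal.span {C f}
  let K : Ideal P' := J' ⊔ (Ideal.span {f}).annihilator.map C
  have hJK : J' ≤ K := le_sup_left
  have hann : ∀ {v : P'}, C f * v = 0 → v ∈ K := fun hv =>
    Ideal.mem_sup_right (mem_map_C_of_mul_eq_zero hv)
  let D : (ℕ → Cube.V P' m) →ₗ[P'] (ℕ → Cube.V P' m) := Cube.D f' r'
  have hDmv : ∀ {a b : ℕ} (A : Fin a → Fin b → P') (w : Fin b → ℕ → Cube.V P' m) (i : Fin a),
      D (mv A w i) = mv A (fun k => D (w k)) i := fun A w i => by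
    simp [mv_apply, map_sum, map_smul]
  have hDD : ∀ w i, D (D w) i = (C f * g) • w (i + 1) := fun w i => by
    rw [← hsum]
    exact Cube.D_D f' r' w i
  have hdiv : ∀ {v : P'}, v ∈ Ideal.span {C f} → ∃ e, C f * e = v := fun hv => by
    obtain ⟨e, he⟩ := Ideal.mem_span_singleton'.1 hv
    exact ⟨e, by rw [mul_comm, he]⟩
  -- the zigzag
  let Good : ∀ j, (Fin (nn (j + 1)) → ℕ → Cube.V P' m) → Prop := fun j c => ∀ i s b,
    mv (MC j) (fun k => D (c k)) i s b ∈ Ideal.span {C f}
  have step : ∀ j (c : Fin (nn (j + 1)) → ℕ → Cube.V P' m), Good j c →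
      ∃ (c' : Fin (nn (j + 1 + 1)) → ℕ → Cube.V P' m)
        (e : Fin (nn (j + 1)) → ℕ → Cube.V P' m),
        (∀ i, D (c i) - mv (MC (j + 1)) c' i = (C f : P') • e i) ∧ Good (j + 1) c' := by
    intro j c hc
    have hpre : ∀ s b, ∃ w : Fin (nn (j + 1 + 1)) → P',
        ∀ i, mv (MC (j + 1)) w i - D (c i) s b ∈ Ideal.span {C f} := by
      intro s b
      refine exists_preimage π hπ hker (M' (j + 1)) (fun i => D (c i) s b) fun d => ?_
      rw [hMπ]
      refine (hex j _).1 (funext fun i => ?_)
      have h2 := (map_eq_zero_iff_mem π hker _).2 (hc i s b)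
      have h3 := congr_arg (coeff d) h2
      rw [MvPolynomial.coeff_map, MvPolynomial.coeff_zero] at h3
      rw [mv_apply]
      rw [mv_apply] at h3
      simp only [Finset.sum_apply, Pi.smul_apply, smul_eq_mul, MC] at h3 ⊢
      rw [MvPolynomial.coeff_sum, map_sum] at h3
      have hcc : ∀ (x : R') (v : P'), π (coeff d ((C x : P') * v)) = π x * π (coeff d v) :=
        fun x v => by rw [MvPolynomial.coeff_C_mul, map_mul]
      rw [Finset.sum_congr rfl fun x _ => hcc (M' j i x) _] at h3
      simpa [hM'] using h3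
    choose w hw using hpre
    let c' : Fin (nn (j + 1 + 1)) → ℕ → Cube.V P' m := fun k s b => w s b k
    have hc' : ∀ i s b, D (c i) s b - mv (MC (j + 1)) c' i s b ∈ Ideal.span {C f} := by
      intro i s b
      rw [← neg_sub]
      refine neg_mem ?_
      have := hw s b i
      simpa [mv_apply, Finset.sum_apply, c'] using this
    choose e he using fun i s b => hdiv (hc' i s b)
    have heq : ∀ i, D (c i) - mv (MC (j + 1)) c' i = (C f : P') • e i := fun i =>
      funext fun s => funext fun b => (he i s b).symm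
    refine ⟨c', e, heq, fun i s b => ?_⟩
    have h2 : mv (MC (j + 1)) (fun k => D (c' k)) i =
        D (D (c i)) - (C f : P') • D (e i) := by
      rw [← hDmv, ← map_smul, ← heq i, map_sub, sub_sub_cancel]
    rw [h2]
    simp only [Pi.sub_apply, Pi.smul_apply, hDD, smul_eq_mul]
    exact sub_mem (Ideal.mem_span_singleton'.2 ⟨g * c i (s + 1) b, by ring⟩)
      (Ideal.mem_span_singleton'.2 ⟨D (e i) s b, by ring⟩)
  let kk := N + 1
  let c₀ : Fin (nn 0) → ℕ → Cube.V P' m := fun _ s => if s = kk then Cube.delta P' m else 0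
  have hbase : ∀ i s b, C f * D (c₀ i) s b = 0 := by
    intro i s b
    have hI : Cube.opI f' (c₀ i s) = 0 := by
      by_cases h : s = kk
      · simp only [c₀, if_pos h]
        exact Cube.opI_delta f'
      · simp [c₀, if_neg h]
    have hmem : D (c₀ i) s b ∈ Ideal.span (Set.range r') := by
      rw [show D (c₀ i) s = _ from Cube.D_apply f' r' (c₀ i) s, hI, zero_add]
      exact Cube.opE_mem _ _ _
    have hr : Ideal.span (Set.range r') ≤ Submodule.comap (LinearMap.mul P' P' (C f)) ⊥ := by
      rw [Ideal.span_le]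
      rintro _ ⟨j, rfl⟩
      exact mul_eq_zero_of_coeffs π hker hf hπ (h1 j)
    exact hr hmem
  have hfirst : ∃ (c₁ : Fin (nn 1) → ℕ → Cube.V P' m) (e : Fin (nn 0) → ℕ → Cube.V P' m),
      (∀ i, D (c₀ i) - mv (MC 0) c₁ i = (C f : P') • e i) ∧ Good 0 c₁ := by
    have hpre : ∀ s b, ∃ w : Fin (nn 1) → P',
        ∀ i, mv (MC 0) w i - D (c₀ i) s b ∈ Ideal.span {C f} := by
      intro s b
      refine exists_preimage π hπ hker (M' 0) (fun i => D (c₀ i) s b) fun d => ?_
      rw [hMπ]
      refine (h0 _).2 (Ideal.mem_map_of_mem π (mem_annihilator_of_mul_eq_zero ?_))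
      rw [← MvPolynomial.coeff_C_mul, hbase i0 s b, MvPolynomial.coeff_zero]
    choose w hw using hpre
    let c₁ : Fin (nn 1) → ℕ → Cube.V P' m := fun k s b => w s b k
    have hc₁ : ∀ i s b, D (c₀ i) s b - mv (MC 0) c₁ i s b ∈ Ideal.span {C f} := by
      intro i s b
      rw [← neg_sub]
      refine neg_mem ?_
      have := hw s b i
      simpa [mv_apply, Finset.sum_apply, c₁] using this
    choose e he using fun i s b => hdiv (hc₁ i s b)
    have heq : ∀ i, D (c₀ i) - mv (MC 0) c₁ i = (C f : P') • e i := fun i =>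
      funext fun s => funext fun b => (he i s b).symm
    refine ⟨c₁, e, heq, fun i s b => ?_⟩
    have h2 : mv (MC 0) (fun k => D (c₁ k)) i = D (D (c₀ i)) - (C f : P') • D (e i) := by
      rw [← hDmv, ← map_smul, ← heq i, map_sub, sub_sub_cancel]
    rw [h2]
    simp only [Pi.sub_apply, Pi.smul_apply, hDD, smul_eq_mul]
    exact sub_mem (Ideal.mem_span_singleton'.2 ⟨g * c₀ i (s + 1) b, by ring⟩)
      (Ideal.mem_span_singleton'.2 ⟨D (e i) s b, by ring⟩)
  obtain ⟨c₁, e₀, he₀, hg₁⟩ := hfirst
  choose nc ne hne hgood using step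
  let seq : ∀ j, {c : Fin (nn (j + 1)) → ℕ → Cube.V P' m // Good j c} := fun j =>
    Nat.rec (motive := fun j => {c : Fin (nn (j + 1)) → ℕ → Cube.V P' m // Good j c}) ⟨c₁, hg₁⟩
      (fun j p => ⟨nc j p.1 p.2, hgood j p.1 p.2⟩) j
  let c : ∀ j, Fin (nn j) → ℕ → Cube.V P' m := fun j => match j with
    | 0 => c₀
    | j + 1 => (seq j).1
  have hc : ∀ j, ∃ e : Fin (nn j) → ℕ → Cube.V P' m,
      ∀ i, D (c j i) - mv (MC j) (c (j + 1)) i = (C f : P') • e i := fun j => by
    cases j with
    | zero => exact ⟨e₀, he₀⟩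
    | succ j => exact ⟨ne j (seq j).1 (seq j).2, hne j (seq j).1 (seq j).2⟩
  choose e he using hc
  -- the scalar cycles
  let z : ℕ → ∀ j, Fin (nn j) → P' := fun s j l => c j l s (Cube.O m)
  have hcycle : ∀ s j i, mv (MC j) (z s (j + 1)) i ∈ J' := by
    intro s j i
    have h := congr_fun (congr_fun (he j i) s) (Cube.O m)
    simp only [Pi.sub_apply, Pi.smul_apply, smul_eq_mul, mv_apply, Finset.sum_apply] at h
    simp only [z, mv_apply, smul_eq_mul]
    rw [show ∑ k, MC j i k * c (j + 1) k s (Cube.O m) =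
      D (c j i) s (Cube.O m) - C f * e j i s (Cube.O m) by rw [← h, sub_sub_cancel]]
    exact sub_mem (Ideal.mem_sup_left (Cube.D_apply_O f' r' _ _))
      (Ideal.mem_sup_right (Ideal.mul_mem_right _ _ (Ideal.mem_span_singleton_self _)))
  have hid : ∀ s j i, g * z (s + 1) j i - mv (χC j) (z s (j + 1 + 1)) i -
      mv (MC j) (fun k => e (j + 1) k s (Cube.O m)) i - D (e j i) s (Cube.O m) ∈ K := by
    intro s j i
    refine hann ?_
    have hmain : (C f : P') • (fun t => g • c j i (t + 1)) - (C f : P') • mv (χC j) (c (j + 1 + 1)) i -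
        (C f : P') • mv (MC j) (e (j + 1)) i = (C f : P') • D (e j i) := by
      have h1 : D (D (c j i)) = (C f : P') • (fun t => g • c j i (t + 1)) :=
        funext fun t => by rw [hDD, mul_smul]; rfl
      rw [← h1, ← map_smul, ← he j i, map_sub, hDmv,
        show (fun k => D (c (j + 1) k)) = mv (MC (j + 1)) (c (j + 1 + 1)) + (C f : P') • e (j + 1) from
          funext fun k => by
            rw [Pi.add_apply, Pi.smul_apply, ← he (j + 1) k, add_sub_cancel],
        map_add, map_smul, Pi.add_apply, Pi.smul_apply, hMM, Pi.smul_apply]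
      abel
    have h := congr_fun (congr_fun hmain s) (Cube.O m)
    simp only [Pi.sub_apply, Pi.smul_apply, smul_eq_mul, mv_apply, Finset.sum_apply] at h
    simp only [z, mv_apply, smul_eq_mul, mul_sub]
    rw [← h]
    ring
  let B : ∀ j, Set (Fin (nn j) → P') := fun j =>
    {v | ∃ t : Fin (nn (j + 1)) → P', ∀ i, v i - mv (MC j) t i ∈ K}
  have hbdry : ∀ t j s, z s (j + 2 * t) ∈ B (j + 2 * t) → g ^ t • z (s + t) j ∈ B j := by
    intro t
    induction t with
    | zero =>
        intro j s h
        rw [pow_zero, one_smul]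
        exact h
    | succ t ih =>
        intro j s h
        rw [show j + 2 * (t + 1) = j + 1 + 1 + 2 * t by ring] at h
        obtain ⟨u, hu⟩ := ih (j + 1 + 1) s h
        refine ⟨mv (χC (j + 1)) u + g ^ t • fun k => e (j + 1) k (s + t) (Cube.O m), fun i => ?_⟩
        have hK1 : mv (χC j) (fun k => (g ^ t • z (s + t) (j + 1 + 1)) k - mv (MC (j + 1 + 1)) u k) i
            ∈ K := by
          rw [mv_apply]
          exact Ideal.sum_mem _ fun k _ => Ideal.mul_mem_left _ _ (hu k)
        have hK2 : mv (χC j) (mv (MC (j + 1 + 1)) u) i - mv (MC j) (mv (χC (j + 1)) u) i ∈ K := by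
          refine hann ?_
          have hl := congr_fun (hMM j (mv (MC (j + 1 + 1)) u)) i
          rw [hMM (j + 1) u, map_smul] at hl
          simp only [Pi.smul_apply, smul_eq_mul] at hl
          rw [mul_sub, hl, sub_self]
        have hK3 := K.mul_mem_left (g ^ t) (hid (s + t) j i)
        have hK4 : D (e j i) (s + t) (Cube.O m) ∈ K :=
          hJK (Ideal.mem_sup_left (Cube.D_apply_O f' r' _ _))
        have hsum' := add_mem (add_mem (add_mem hK1 hK2) hK3) (K.mul_mem_left (g ^ t) hK4)
        rw [show (fun k => (g ^ t • z (s + t) (j + 1 + 1)) k - mv (MC (j + 1 + 1)) u k) =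
          g ^ t • z (s + t) (j + 1 + 1) - mv (MC (j + 1 + 1)) u from rfl, map_sub, map_smul] at hsum'
        rw [map_add, map_smul, ← add_assoc s t 1]
        simp only [Pi.sub_apply, Pi.add_apply, Pi.smul_apply, smul_eq_mul] at hsum' ⊢
        convert hsum' using 1
        rw [pow_succ]
        ring
  -- boundaries from the vanishing of Tor
  have hz : z 0 (0 + 2 * kk) ∈ B (0 + 2 * kk) := by
    rw [show 0 + 2 * kk = (2 * N + 1) + 1 by omega]
    let p := 2 * N + 1
    let S := MvPolynomial (Fin n) R ⧸ Ideal.span (Set.range fs)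
    let q : P' →+* S := (Ideal.Quotient.mk _).comp (MvPolynomial.map π)
    have hqJ : ∀ v, q v = 0 ↔ v ∈ J' := by
      have hk : RingHom.ker q = J' := by
        rw [RingHom.ker, ← Ideal.comap_comap, ← RingHom.ker, Ideal.mk_ker,
          show Ideal.span (Set.range fs) =
            (Ideal.span (Set.range f')).map (MvPolynomial.map π) by
            rw [Ideal.map_span, ← Set.range_comp]
            exact congr_arg (fun h => Ideal.span (Set.range h)) (funext fun j => (hf' j).symm),
          Ideal.comap_map_of_surjective _ (MvPolynomial.map_surjective π hπ), ← RingHom.ker_eq_comap_bot,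
          MvPolynomial.ker_map, hker, Ideal.map_span, Set.image_singleton]
      exact fun v => by rw [← hk, RingHom.mem_ker]
    have hmv : ∀ (j : ℕ) (w : Fin (nn (j + 1)) → P') (i : Fin (nn j)),
        q (mv (MC j) w i) = mv (M j) (fun k => q (w k)) i := by
      intro j w i
      simp only [mv_apply, map_sum, smul_eq_mul, MC]
      refine Finset.sum_congr rfl fun k _ => ?_
      change Ideal.Quotient.mk _ (MvPolynomial.map π (C (M' j i k) * w k)) =
        M j i k • Ideal.Quotient.mk _ (MvPolynomial.map π (w k))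
      rw [map_mul, MvPolynomial.map_C, hM', ← MvPolynomial.smul_eq_C_mul]
      rfl
    obtain ⟨t, ht⟩ := exact_of_subsingleton_tor I nn M i0 h0 hex S p
      (hN (R ⧸ I) (p + 1) (by omega)) (fun k => q (z 0 (p + 1) k)) (funext fun i => by
        rw [← hmv, Pi.zero_apply]
        exact (hqJ _).2 (hcycle 0 p i))
    have hqs : Function.Surjective q :=
      Ideal.Quotient.mk_surjective.comp (MvPolynomial.map_surjective π hπ)
    choose t' ht' using fun k => hqs (t k)
    refine ⟨t', fun i => hJK ((hqJ _).1 ?_)⟩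
    rw [map_sub, hmv, show (fun k => q (t' k)) = t from funext ht', ht, sub_self]
  obtain ⟨t, ht⟩ := hbdry kk 0 0 hz
  have hone : z (0 + kk) 0 i0 = 1 := by
    change (if 0 + kk = kk then Cube.delta P' m else 0) (Cube.O m) = 1
    simp [Cube.delta]
  have hM0 : mv (MC 0) t i0 ∈ K := by
    refine hann ?_
    rw [mv_apply, Finset.mul_sum]
    refine Finset.sum_eq_zero fun k _ => ?_
    have : f * M' 0 i0 k = 0 := by
      refine mul_eq_zero_of_coeff_mem π hker hf ?_ hπ
      rw [hM']
      exact (h0 (fun i => M 0 i k)).1 ⟨Pi.single k 1, funext fun i => by simp [mv_apply, Pi.single_apply]⟩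
    rw [smul_eq_mul, ← mul_assoc, ← map_mul, this, map_zero, zero_mul]
  have hgk : g ^ kk ∈ K := by
    have := add_mem (ht i0) hM0
    rwa [sub_add_cancel, Pi.smul_apply, hone, smul_eq_mul, mul_one] at this
  refine ⟨kk, ?_⟩
  have := Ideal.mem_map_of_mem (MvPolynomial.map π) hgk
  rw [map_pow, Ideal.map_sup, Ideal.map_sup] at this
  refine (sup_le (c := Ideal.span (Set.range fs) ⊔ ((Ideal.span {f}).annihilator.map π).map C)
    (sup_le (c := Ideal.span (Set.range fs) ⊔ ((Ideal.span {f}).annihilator.map π).map C) ?_ ?_)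
    ?_) this
  · rw [Ideal.map_span, Ideal.span_le]
    rintro _ ⟨_, ⟨j, rfl⟩, rfl⟩
    exact Ideal.mem_sup_left (Ideal.subset_span ⟨j, (hf' j).symm⟩)
  · rw [Ideal.map_span, Set.image_singleton, Ideal.span_le, Set.singleton_subset_iff,
      (map_eq_zero_iff_mem π hker _).2 (Ideal.mem_span_singleton_self _)]
    exact Submodule.zero_mem _
  · rw [Ideal.map_map]
    refine le_sup_of_le_right ?_
    rw [Ideal.map_map]
    exact le_of_eq (congr_arg (fun φ => Ideal.map φ _)
      (RingHom.ext fun x => MvPolynomial.map_C π x))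

end Groth.Agent.Lib.TorObstruction.Main
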